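import Cfsg.Agent.H407.EPT.Cls
import Cfsg.Agent.H226.EX.Glue
import Cfsg.Agent.H59.EP.UBFin
import Cfsg.Agent.H542.EPX.Final
import Cfsg.Agent.H369.Ti.Elts
import Cfsg.Agent.UGT.A7.Five
import Cfsg.Agent.S0494
import Cfsg.Agent.S0493

/-!
# S5745, Tits group: socles `T ^ k` with `k ≥ 2`, `A₅`, `U₃(4)` (helper407)

* `no_k` : `2 ≤ k` is impossible (every `T`);
* `no_sixty` : `k = 1`, `|T| = 60`;
* `no_u34` : `T ≅ U₃(4)`.
-/

set_option autoImplicit false

namespace Cfsg.Agent.H407.EPT

open Subgroup Cfsg Cfsg.Agent.H284 Cfsg.Agent.H209.EPX Cfsg.Agent.H226.EX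

section

variable {G : Type} [Group G] {H N : Subgroup G} {T : Type} [Group T] {k : ℕ} {e : N ≃* (Fin k → T)}

/-- the embedding of `T` as a factor of `N` -/
noncomputable def io (e : N ≃* (Fin k → T)) (i : Fin k) : T →* G :=
  N.subtype.comp (e.symm.toMonoidHom.comp (MonoidHom.mulSingle (fun _ : Fin k => T) i))

theorem io_inj (i : Fin k) : Function.Injective (io e i) := by
  intro a b h
  have h1 := e.symm.injective (Subtype.ext h)
  exact Pi.mulSingle_injective i h1

theorem io_comm {i j : Fin k} (hij : i ≠ j) (a b : T) : io e i a * io e j b = io e j b * io e i a := by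
  have h1 : (Pi.mulSingle i a : Fin k → T) * Pi.mulSingle j b = Pi.mulSingle j b * Pi.mulSingle i a :=
    (Pi.mulSingle_commute (f := fun _ : Fin k => T) hij a b).eq
  have h2 := congrArg (fun x => (e.symm x : G)) h1
  simp only [map_mul, Subgroup.coe_mul] at h2
  exact h2

theorem orderOf_io (i : Fin k) (a : T) : orderOf (io e i a) = orderOf a := orderOf_injective _ (io_inj i) a

/-- `|T|` divides the order of the centralizer of an element of another factor -/
theorem card_dvd_cent {i j : Fin k} (hij : i ≠ j) (a : T) :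
    Nat.card T ∣ Nat.card (centralizer ({io e i a} : Set G)) := by
  refine Subgroup.card_dvd_of_injective ((io e j).codRestrict (centralizer ({io e i a} : Set G)) fun b => ?_) ?_
  · rw [mem_centralizer_singleton_iff]
    exact (io_comm hij a b).symm
  · intro b c h
    have h1 : io e j b = io e j c := congrArg (fun x : centralizer ({io e i a} : Set G) => (x : G)) h
    exact io_inj (e := e) j h1

theorem card_pow [Finite G] (e : N ≃* (Fin k → T)) : Nat.card T ^ k ∣ Nat.card G := by
  have h1 : Nat.card N = Nat.card T ^ k := by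
    rw [Nat.card_congr e.toEquiv, Nat.card_fun, Nat.card_eq_fintype_card (α := Fin k), Fintype.card_fin]
  rw [← h1]
  exact N.card_subgroup_dvd_card

end

theorem sixty_le {G : Type*} [Group G] [Finite G] [IsSimpleGroup G] (hG : ¬ IsMulCommutative G) : 60 ≤ Nat.card G := by
  by_contra hcon
  have hc : ¬ IsCyclic G := by
    intro h
    exact hG h.isMulCommutative
  have := Cfsg.Agent.S0493.result hc (by omega)
  omega

section

variable {H N : Subgroup Lie.TitsGroup} {T : Type} [Group T] {k : ℕ} {e : N ≃* (Fin k → T)}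

theorem finite_T (h : EPS H N e) : Finite T := Finite.of_injective _ (io_inj (e := e) ⟨0, h.pos⟩)

theorem num {n k : ℕ} (hk : 2 ≤ k) (h : n ^ k ∣ 17971200) : n ∣ 480 := by
  have h1 : n ^ 2 ∣ 17971200 := (pow_dvd_pow n hk).trans h
  have h2 : n ≤ 4240 := by
    have := Nat.le_of_dvd (by norm_num) h1
    by_contra hc
    push Not at hc
    nlinarith
  have h3 : ((List.range 4241).all fun n => decide (n ^ 2 ∣ 17971200 → n ∣ 480)) = true := by decide +kernel
  exact of_decide_eq_true (List.all_eq_true.1 h3 n (List.mem_range.2 (by omega))) h1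

/-- **no socle `T ^ k`, `k ≥ 2`** -/
theorem no_k (h : EPS H N e) (hk : 2 ≤ k) : False := by
  have hf := finite_T h
  have hs := h.simple
  have h1 : Nat.card T ∣ 480 := num hk (by
    have := card_pow e
    rwa [card_tits] at this)
  have hna : ¬ IsMulCommutative T := by
    obtain ⟨a, b, hab⟩ := h.nab
    intro hc
    exact hab (hc.is_comm.comm a b)
  have h60 : 60 ≤ Nat.card T := sixty_le hna
  have hij : (⟨0, by omega⟩ : Fin k) ≠ ⟨1, by omega⟩ := by
    intro h2
    exact absurd (congrArg Fin.val h2) (by norm_num)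
  by_cases h3 : 3 ∣ Nat.card T
  · have : Fact (Nat.Prime 3) := ⟨by norm_num⟩
    obtain ⟨a, ha⟩ := exists_prime_orderOf_dvd_card' 3 h3
    have h4 := card_dvd_cent (e := e) hij a
    rw [cent_three (by rw [orderOf_io, ha])] at h4
    have h5 := Nat.dvd_gcd h1 h4
    have h6 := Nat.le_of_dvd (by norm_num) h5
    norm_num at h6
    omega
  · by_cases h5 : 5 ∣ Nat.card T
    · have : Fact (Nat.Prime 5) := ⟨by norm_num⟩
      obtain ⟨a, ha⟩ := exists_prime_orderOf_dvd_card' 5 h5
      have h4 := card_dvd_cent (e := e) hij a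
      rw [cent_five (by rw [orderOf_io, ha])] at h4
      have h6 := Nat.le_of_dvd (by norm_num) h4
      omega
    · have h6 : Nat.card T ≤ 480 := Nat.le_of_dvd (by norm_num) h1
      have h7 : ∀ n ∈ Finset.range 481, n ∣ 480 → ¬ 3 ∣ n → ¬ 5 ∣ n → n < 60 := by decide +kernel
      exact absurd (h7 _ (Finset.mem_range.2 (by omega)) h1 h3 h5) (by omega)

theorem num60 : 1 + ((([(2, 2), (3, 1), (5, 1)] : List (ℕ × ℕ)).map fun x => Cfsg.Agent.H59.EP.gal x.1 x.2).sum * (60 / 6) + 60 ^ 2 / 60) *
      (2 * (60 / 6)) < 149760 := by decide +kernel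

theorem num120 : 1 + ((([(2, 3), (3, 1), (5, 1)] : List (ℕ × ℕ)).map fun x => Cfsg.Agent.H59.EP.gal x.1 x.2).sum * (120 / 6) + 120 ^ 2 / 60) *
      (2 * (120 / 6)) < 149760 := by decide +kernel

/-- **`|T| = 60`** -/
theorem no_sixty [IsSimpleGroup Lie.TitsGroup] {e : N ≃* (Fin 1 → T)} (h : EPS H N e) (hc : Nat.card T = 60) :
    False := by
  have hf := finite_T h
  have hs := h.simple
  have h1 : Nat.card (MulAut T) ∣ 120 := by
    obtain ⟨i⟩ := Cfsg.Agent.S0494.result hc
    rw [Nat.card_congr (MulAut.congr i).toEquiv]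
    obtain ⟨ψ, hψ⟩ := Cfsg.Agent.UGT.A7.Dg.exists_autHom5
    have hinj : Function.Injective ψ := by
      intro a b hab
      ext x : 1
      apply Subtype.ext
      rw [hψ, hψ, hab]
    have h1 := Subgroup.card_dvd_of_injective ψ hinj
    have h2 : Nat.card (Equiv.Perm (Fin 5)) = 120 := by
      rw [Nat.card_perm, Nat.card_eq_fintype_card, Fintype.card_fin]
      rfl
    rwa [h2] at h1
  have h2 := (card_dvd_aut h).trans h1
  have h3 := dvd_card h
  rw [hc] at h3
  have h4 : Nat.card H = 60 ∨ Nat.card H = 120 := by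
    obtain ⟨a, ha⟩ := h3
    rw [ha] at h2 ⊢
    have h5 : a ∣ 2 := by
      have h6 : 60 * a ∣ 60 * 2 := by simpa using h2
      exact Nat.dvd_of_mul_dvd_mul_left (by norm_num) h6
    rcases (Nat.dvd_prime Nat.prime_two).1 h5 with rfl | rfl
    · left; rfl
    · right; rfl
  have h5 := H.card_mul_index
  rw [card_tits] at h5
  rcases h4 with h4 | h4
  · have h6 := index_le_of_eps Cfsg.Agent.H59.EP.twoGen h [(2, 2), (3, 1), (5, 1)] (by
      intro x hx
      simp only [List.mem_cons, List.not_mem_nil, or_false] at hx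
      rcases hx with rfl | rfl | rfl <;> norm_num) (by decide) (by
      intro x hx
      simp only [List.mem_cons, List.not_mem_nil, or_false] at hx
      rcases hx with rfl | rfl | rfl <;> norm_num) (by rw [h4]; rfl)
    rw [h4] at h6 h5
    have h7 := h6.trans_lt num60
    omega
  · have h6 := index_le_of_eps Cfsg.Agent.H59.EP.twoGen h [(2, 3), (3, 1), (5, 1)] (by
      intro x hx
      simp only [List.mem_cons, List.not_mem_nil, or_false] at hx
      rcases hx with rfl | rfl | rfl <;> norm_num) (by decide) (by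
      intro x hx
      simp only [List.mem_cons, List.not_mem_nil, or_false] at hx
      rcases hx with rfl | rfl | rfl <;> norm_num) (by rw [h4]; rfl)
    rw [h4] at h6 h5
    have h7 := h6.trans_lt num120
    omega

/-- no subgroup with an element of order 15 -/
theorem no_fifteen (h : EPS H N e) {a : T} (ha : orderOf a = 15) : False :=
  ne_fifteen (io e ⟨0, h.pos⟩ a) (by rw [orderOf_io, ha])

/-- **`T ≅ U₃(4)`** -/
theorem no_u34 (h : EPS H N e) {F : Type} [Field F] [Fintype F] (hF : Fintype.card F = 4 ^ 2) (i : T ≃* PSU 3 F 4) :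
    False := by
  obtain ⟨a, ha⟩ := Cfsg.Agent.H369.Ti.Elts.u34 hF
  exact no_fifteen h (a := i.symm a) (by rw [MulEquiv.orderOf_eq, ha])

end

end Cfsg.Agent.H407.EPT
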